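import Mathlib
import Cfsg.Agent.Lib.QT2.Defs
import Cfsg.Agent.Lib.QT1.CCa
import Cfsg.Agent.Lib.Tech.Invol
import Cfsg.Agent.Lib.Sect.Tools
import Cfsg.Agent.Lib.SylTools.Rank
import Cfsg.Agent.Lib.Transfer.Frobenius

/-!
Tools for the counterexample: conjugate subgroups, central quotients, `p`-rank, commuting products.
-/

set_option autoImplicit false
set_option linter.unusedSectionVars false

namespace CfsgLib.QT2.St

open Cfsg Subgroup CfsgLib.LBal CfsgLib.Comp
open scoped commutatorElement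

variable {G : Type*} [Group G] {g x y : G} {H L K M D X : Subgroup G} {p : ℕ}

theorem mem_cj : x ∈ cj g H ↔ g⁻¹ * x * g ∈ H := Tech.mem_cj
theorem conj_mem_cj : g * x * g⁻¹ ∈ cj g H ↔ x ∈ H := Tech.conj_mem_cj
theorem cj_mul (g h : G) (H : Subgroup G) : cj (g * h) H = cj g (cj h H) := Tech.cj_mul g h H
theorem cj_inv_cj (g : G) (H : Subgroup G) : cj g⁻¹ (cj g H) = H := Tech.cj_inv_cj g H
theorem cj_cj_inv (g : G) (H : Subgroup G) : cj g (cj g⁻¹ H) = H := Tech.cj_cj_inv g H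
theorem cj_inj (g : G) (h : cj g H = cj g K) : H = K := Tech.cj_injective g h
theorem cj_sup (g : G) (H K : Subgroup G) : cj g (H ⊔ K) = cj g H ⊔ cj g K := map_sup _ _ _
theorem norm_iff : g ∈ normalizer (H : Set G) ↔ cj g H = H := Tech.mem_normalizer_iff_cj
theorem cj_cent (g : G) (H : Subgroup G) : cj g (centralizer (H : Set G)) = centralizer (cj g H : Set G) :=
  Tech.cj_centralizer g H
theorem cj_cent1 (g a : G) : cj g (centralizer {a}) = centralizer {g * a * g⁻¹} :=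
  Tech.cj_centralizer_singleton g a
theorem cj_norm (g : G) (H : Subgroup G) : cj g (normalizer (H : Set G)) = normalizer (cj g H : Set G) :=
  Tech.cj_normalizer g H
theorem card_cj (g : G) (H : Subgroup G) : Nat.card (cj g H) = Nat.card H := Tech.card_cj g H
theorem cj_eq_inv (h : cj g H = K) : cj g⁻¹ K = H := by rw [← h, cj_inv_cj]
theorem cj_le (h : H ≤ K) (hg : g ∈ K) : cj g H ≤ K := Tech.cj_le_iff.2 fun _ hx =>
  mul_mem (mul_mem hg (h hx)) (inv_mem hg)
theorem qs_cj (h : IsQuasisimple H) (g : G) : IsQuasisimple (cj g H) :=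
  (qs_map_iff_of_injective _ (MulAut.conj g).injective).2 h

theorem conj_mem (hg : g ∈ normalizer (H : Set G)) (hx : x ∈ H) : g * x * g⁻¹ ∈ H :=
  (mem_normalizer_iff.1 hg x).1 hx

theorem norm_cent (hg : g ∈ normalizer (H : Set G)) : g ∈ normalizer (centralizer (H : Set G) : Set G) := by
  rw [norm_iff, cj_cent, norm_iff.1 hg]

theorem norm_sup (h1 : g ∈ normalizer (H : Set G)) (h2 : g ∈ normalizer (K : Set G)) :
    g ∈ normalizer ((H ⊔ K : Subgroup G) : Set G) := by rw [norm_iff, cj_sup, norm_iff.1 h1, norm_iff.1 h2]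

theorem cn (hg : g ∈ centralizer (H : Set G)) : g ∈ normalizer (H : Set G) := centralizer_le_normalizer _ hg

theorem mc1 : x ∈ centralizer ({y} : Set G) ↔ x * y = y * x := mem_centralizer_singleton_iff

theorem mc_symm (h : x ∈ centralizer ({y} : Set G)) : y ∈ centralizer ({x} : Set G) := mc1.2 (mc1.1 h).symm

theorem le_c1 : H ≤ centralizer {x} ↔ x ∈ centralizer (H : Set G) :=
  ⟨fun h _ hy => mc1.1 (h hy), fun h y hy => mc1.2 (h y hy)⟩

theorem mem_cent_sup : x ∈ centralizer ((H ⊔ K : Subgroup G) : Set G) ↔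
    x ∈ centralizer (H : Set G) ∧ x ∈ centralizer (K : Set G) := by rw [centralizer_sup']; rfl

theorem comm_mem_left (hx : x ∈ H) (hy : y ∈ normalizer (H : Set G)) : ⁅x, y⁆ ∈ H := by
  rw [show ⁅x, y⁆ = x * (y * x⁻¹ * y⁻¹) by group]
  exact mul_mem hx (conj_mem hy (inv_mem hx))

theorem comm_mem_right (hx : x ∈ normalizer (H : Set G)) (hy : y ∈ H) : ⁅x, y⁆ ∈ H :=
  mul_mem (conj_mem hx hy) (inv_mem hy)

theorem mem_sup (h : L ≤ centralizer (K : Set G)) : x ∈ L ⊔ K ↔ ∃ a ∈ L, ∃ b ∈ K, a * b = x :=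
  CL.mem_sup_of_le_normalizer fun _ ha => cn (h ha)

theorem sup_le_norm (h : L ≤ centralizer (K : Set G)) : L ⊔ K ≤ normalizer (K : Set G) :=
  sup_le (fun _ ha => cn (h ha)) le_normalizer

theorem comm_mul {a a' b b' : G} (h1 : a * b = b * a) (h2 : a * b' = b' * a) (h3 : a' * b = b * a')
    (h4 : a' * b' = b' * a') : ⁅a * b, a' * b'⁆ = ⁅a, a'⁆ * ⁅b, b'⁆ := by
  have c1 : Commute (a' * a) b := Commute.mul_left h3 h1
  have c2 : Commute (a' * a) b' := Commute.mul_left h4 h2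
  have k : Commute (a' * a)⁻¹ ⁅b, b'⁆ :=
    (((c1.mul_right c2).mul_right c1.inv_right).mul_right c2.inv_right).inv_left
  calc ⁅a * b, a' * b'⁆ = a * (b * a') * b' * b⁻¹ * (b' * a)⁻¹ * a'⁻¹ := by group
    _ = a * a' * (⁅b, b'⁆ * (a' * a)⁻¹) := by rw [← h3, ← h2]; group
    _ = _ := by rw [← k.eq]; group

theorem center_bot : center L = ⊥ ↔ ∀ x ∈ L, x ∈ centralizer (L : Set G) → x = 1 := by
  rw [← map_eq_bot_iff_of_injective _ L.subtype_injective, map_center_subtype, eq_bot_iff_forall]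
  exact ⟨fun h x h1 h2 => h x ⟨h1, h2⟩, fun h x hx => h x hx.1 hx.2⟩

theorem center_two (h : IsPGroup 2 (center L)) : IsPGroup 2 (L ⊓ centralizer (L : Set G) : Subgroup G) :=
  map_center_subtype L ▸ h.map _

theorem eq_one_of (h : IsPGroup 2 H) (hp : p.Prime) (h2 : p ≠ 2) (hx : x ∈ H) (e : x ^ p = 1) : x = 1 := by
  obtain ⟨k, hk⟩ := Tech.isPGroup_iff_mem.1 h x hx
  exact mem_bot.1 (LAE.mem_of_pow_mem_of_pow_mem (W := ⊥)
    (((Nat.coprime_primes hp Nat.prime_two).2 h2).pow_right k) e hk)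

theorem card_quot (L : Subgroup G) : Nat.card (L ⧸ center L) = (centralizer (L : Set G)).relIndex L := by
  rw [center_eq_subgroupOf_centralizer]; rfl

theorem card_quot_cj (g : G) (L : Subgroup G) :
    Nat.card (cj g L ⧸ center (cj g L)) = Nat.card (L ⧸ center L) := by
  rw [card_quot, card_quot, ← cj_cent]
  exact Tech.relIndex_cj g _ _

/-- the central quotients of isomorphic groups -/
noncomputable def quotCongr {A B : Type*} [Group A] [Group B] (e : A ≃* B) : A ⧸ center A ≃* B ⧸ center B :=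
  QuotientGroup.congr _ _ e (map_center_of_mulEquiv e)

/-- the part in `M` of an element of `C(M) M` -/
theorem split_pow (h0 : center M = ⊥) {l : G} (hl : l ∈ M) (h : x * l⁻¹ ∈ centralizer (M : Set G)) {n : ℕ}
    (e : x ^ n = 1) : l ^ n = 1 := by
  have c : Commute (x * l⁻¹) l := (h l hl).symm
  have := c.mul_pow n
  rw [inv_mul_cancel_right, e, eq_comm, mul_eq_one_iff_inv_eq] at this
  exact center_bot.1 h0 _ (pow_mem hl n) (this ▸ inv_mem (pow_mem h n))

theorem split_comm (h0 : center M = ⊥) {l m : G} (hl : l ∈ M) (h : x * l⁻¹ ∈ centralizer (M : Set G))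
    (hm : m ∈ M) (h' : y * m⁻¹ ∈ centralizer (M : Set G)) (e : x * y = y * x) : l * m = m * l := by
  have := comm_mul (h l hl).symm (h m hm).symm (h' l hl).symm (h' m hm).symm
  rw [inv_mul_cancel_right, inv_mul_cancel_right, commutatorElement_eq_one_iff_mul_comm.2 e, eq_comm,
    mul_eq_one_iff_inv_eq] at this
  exact commutatorElement_eq_one_iff_mul_comm.1 (center_bot.1 h0 _ (comm_mem_left hl (le_normalizer hm))
    (this ▸ inv_mem (comm_mem_left h (le_normalizer h'))))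

/-- a perfect group in `K` times a subgroup centralizing both lies in `K` -/
theorem le_of_perfect (hD : ⁅D, D⁆ = D)
    (h : ∀ d ∈ D, ∃ k ∈ K, k⁻¹ * d ∈ centralizer (D : Set G) ∧ k⁻¹ * d ∈ centralizer (K : Set G)) : D ≤ K := by
  rw [← hD, commutator_le]
  intro a ha b hb
  obtain ⟨k, hk, c1, c2⟩ := h a ha
  obtain ⟨m, hm, c3, c4⟩ := h b hb
  have e : Commute (k⁻¹ * a) (m⁻¹ * b) :=
    Commute.mul_right (c2 _ (inv_mem hm)).symm (c1 _ hb).symm
  have := comm_mul (c2 k hk) (c4 k hk) (c2 m hm) (c4 m hm)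
  rw [mul_inv_cancel_left, mul_inv_cancel_left, commutatorElement_eq_one_iff_mul_comm.2 e, mul_one] at this
  exact this ▸ comm_mem_left hk (le_normalizer hm)

variable [Finite G]

theorem norm_of_le (h : cj g H ≤ H) : g ∈ normalizer (H : Set G) := Tech.mem_normalizer_of_cj_le h

theorem exists_orderOf (hp : p.Prime) (h : p ∣ Nat.card H) : ∃ x ∈ H, orderOf x = p := by
  have := Fact.mk hp
  obtain ⟨x, hx⟩ := exists_prime_orderOf_dvd_card' (G := H) p h
  exact ⟨x, x.2, by rw [← hx, orderOf_coe]⟩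

theorem exists_pow_mem (hp : p.Prime) (h : p ∣ Nat.card (D ⧸ center D)) :
    ∃ y ∈ D, y ∉ centralizer (D : Set G) ∧ y ^ p ∈ centralizer (D : Set G) := by
  have := Fact.mk hp
  obtain ⟨x, hx⟩ := exists_prime_orderOf_dvd_card' p h
  obtain ⟨y, rfl⟩ := QuotientGroup.mk_surjective x
  have k : ∀ w : D, (w : G) ∈ centralizer (D : Set G) ↔ (w : D ⧸ center D) = 1 := fun w => by
    rw [QuotientGroup.eq_one_iff, center_eq_subgroupOf_centralizer, mem_subgroupOf]
  refine ⟨y, y.2, fun e => hp.ne_one ?_, (k (y ^ p)).2 ?_⟩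
  · rw [← hx, (k y).1 e, orderOf_one]
  · rw [QuotientGroup.mk_pow, ← hx, pow_orderOf_eq_one]

theorem cover2 {C A B : Subgroup G} (hA : ∀ a ∈ A, ∃ b ∈ B, b⁻¹ * a ∈ C) (hc : C.relIndex B ≤ C.relIndex A)
    {b : G} (hb : b ∈ B) : ∃ a ∈ A, b⁻¹ * a ∈ C := by
  have k : ∀ A : Subgroup G, C.relIndex A = ((fun a : G => (a : G ⧸ C)) '' A).ncard := fun A => by
    rw [← Nat.card_coe_set_eq, relIndex, index]
    refine Nat.card_congr (Equiv.ofBijective (Quotient.lift (fun a : A => ⟨((a : G) : G ⧸ C), a, a.2, rfl⟩)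
      fun a b e => Subtype.ext (QuotientGroup.eq.2 (QuotientGroup.leftRel_apply (s := C.subgroupOf A).1 e))) ⟨?_, ?_⟩)
    · rintro ⟨a⟩ ⟨b⟩ e
      exact QuotientGroup.eq.2 (QuotientGroup.eq (s := C) (a := a) (b := b).1 (congrArg Subtype.val e))
    · rintro ⟨_, a, ha, rfl⟩
      exact ⟨((⟨a, ha⟩ : A) : A ⧸ C.subgroupOf A), rfl⟩
  rw [k, k] at hc
  obtain ⟨a, ha, e⟩ := (Set.eq_of_subset_of_ncard_le (by
    rintro _ ⟨a, ha, rfl⟩
    obtain ⟨b, hb, e⟩ := hA a ha
    exact ⟨b, hb, QuotientGroup.eq.2 e⟩) hc).ge ⟨b, hb, rfl⟩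
  exact ⟨a, ha, QuotientGroup.eq.1 e.symm⟩

theorem relIndex_le {C C' : Subgroup G} (h : ∀ x ∈ D, x ∈ C → x ∈ C') : C'.relIndex D ≤ C.relIndex D := by
  rw [← inf_relIndex_right C]
  exact relIndex_le_of_le_left (fun x hx => h x hx.2 hx.1) index_ne_zero_of_finite

theorem mem_of_rank {k : ℕ} (hp : p.Prime) (hr : PRankLE p k X) {A : Subgroup G} (hAX : A ≤ X)
    (hA : ∀ a ∈ A, ∀ b ∈ A, a * b = b * a) (hAp : ∀ a ∈ A, a ^ p = 1) (hc : p ^ k ≤ Nat.card A)
    (hx : x ∈ X) (h1 : x ∈ centralizer (A : Set G)) (h2 : x ^ p = 1) : x ∈ A := by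
  have := Fact.mk hp
  exact QT1.CCa.mem_of_card_eq hr (A := A.subgroupOf X) (x := ⟨x, hx⟩)
    (fun a ha b hb => Subtype.ext (hA a ha b hb)) (fun a ha => Subtype.ext (hAp a ha))
    (by rwa [Nat.card_congr (subgroupOfEquivOfLe hAX).toEquiv]) (fun a ha => Subtype.ext (h1 a ha))
    (Subtype.ext h2)

theorem rank_one (hp : p.Prime) (hr : PRankLE p 2 H) (hX : X ≤ H) (hx : x ∈ H) (h2 : x ^ p = 1)
    (h1 : x ∈ centralizer (X : Set G)) (h3 : x ∉ X) : PRankLE p 1 X := by
  have := Fact.mk hp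
  refine SylTools.pRankLE_subgroup_iff.2 fun A hA hc hAp => by_contra fun h => h3 (hA ?_)
  refine mem_of_rank hp hr (hA.trans hX) hc hAp ?_ hx (centralizer_le hA h1) h2
  obtain ⟨n, hn⟩ := (SylTools.isPGroup_of_pow_eq_one hAp).exists_card_eq
  rw [hn, Nat.pow_le_pow_iff_right hp.one_lt] at h ⊢
  omega

/-- rank one leaves no room for an element of order `p` centralizing `K` -/
theorem not_two (hp : p.Prime) (h2 : p ≠ 2) (hr : PRankLE p 1 X) (hK : IsPGroup 2 (center K)) (hKX : K ≤ X)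
    (hd : p ∣ Nat.card K) (hx : x ∈ X) (h1 : x ∈ centralizer (K : Set G)) (ho : orderOf x = p) : False := by
  obtain ⟨k, hk, ok⟩ := exists_orderOf hp hd
  have kp : k ^ p = 1 := ok ▸ pow_orderOf_eq_one k
  have := mem_of_rank hp hr (A := zpowers x) (zpowers_le.2 hx)
    (SylTools.isMulCommutative_iff_forall.1 inferInstance)
    (fun a ha => orderOf_dvd_iff_pow_eq_one.1 (ho ▸ orderOf_dvd_of_mem_zpowers ha))
    (by rw [Nat.card_zpowers, ho, pow_one]) (hKX hk)
    (Sect.cent_zpowers (h1 k hk)) kp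
  rw [eq_one_of (center_two hK) hp h2 ⟨hk, zpowers_le.2 h1 this⟩ kp, orderOf_one] at ok
  exact hp.ne_one ok.symm

theorem rank_two (hQ : IsQuasithin G) (hp : p.Prime) (h2 : p ≠ 2) {U : Subgroup G} (hU : IsPGroup 2 U)
    (h1 : U ≠ ⊥) (h : H ≤ normalizer (U : Set G)) : PRankLE p 2 H :=
  SylTools.pRankLE_mono h (hQ p hp h2 _ ⟨U, hU, h1, rfl⟩)

theorem rank_cent (hQ : IsQuasithin G) (hp : p.Prime) (h2 : p ≠ 2) (hx : orderOf x = 2) :
    PRankLE p 2 (centralizer ({x} : Set G)) :=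
  rank_two hQ hp h2 (Tech.isPGroup_two_zpowers (Tech.mul_self_of_orderOf_two hx))
    (zpowers_ne_bot.2 (Tech.ne_one_of_orderOf_two hx)) fun _ hg => cn (Sect.cent_zpowers (mc1.1 hg))

/-- a 2-group normalizing a group of even order centralizes an involution of it -/
theorem exists_cent_invol {P : Subgroup G} (hP : IsPGroup 2 P) (hn : P ≤ normalizer (L : Set G))
    (he : Even (Nat.card L)) : ∃ v ∈ L, orderOf v = 2 ∧ P ≤ centralizer {v} := by
  obtain ⟨S, hS, h1⟩ := Tech.exists_isSylowIn_ge hP hn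
  have h2 := hS.inf_of_le_normalizer (N := L) le_rfl
  obtain ⟨v, hv, o, c⟩ := LBal.exists_central hS.pgroup (W := S ⊓ L) inf_le_left
    ((le_inf le_normalizer hS.le).trans inf_normalizer_le_normalizer_inf) fun e => h2.not_dvd (by
      rw [e, inf_eq_right.2 le_normalizer, relIndex_bot_left]; exact he.two_dvd)
  exact ⟨v, hv.2, o, h1.trans (le_c1.2 c)⟩

theorem not_pgroup (h : IsQuasisimple L) (hp : p.Prime) (h1 : IsPGroup p H) : ¬ L ≤ H := by
  have := Fact.mk hp
  have := h1.isNilpotent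
  exact qs_sub_not_le_solvable h inferInstance

/-- some element of odd prime order normalizes a 2-subgroup -/
theorem exists_good (h : IsQuasisimple L) (hc : IsPGroup 2 (center L)) : ∃ U ≤ L, IsPGroup 2 U ∧ U ≠ ⊥ ∧
    ∃ x ∈ L, x ∈ normalizer (U : Set G) ∧ (orderOf x).Prime ∧ orderOf x ≠ 2 := by
  obtain ⟨P⟩ : Nonempty (Sylow 2 L) := inferInstance
  obtain ⟨U, hU, h1, q, hq, h2, -, g, hg, ⟨k, hk⟩, h3⟩ := Transfer.exists_of_not_hasNormalPComplement P (by
    rintro ⟨P, N, hN, h1⟩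
    rcases qs_normal h N hN with rfl | e
    · refine P.not_dvd_index ?_
      rw [isComplement'_top_left.1 h1, index_bot]
      exact (even_card_of_qs h).two_dvd
    · obtain ⟨n, hn⟩ := (hc.to_le e).exists_card_eq
      have h2 := P.not_dvd_index
      rw [h1.index_eq_card, hn] at h2
      obtain rfl : n = 0 := by_contra fun h3 => h2 (dvd_pow_self 2 h3)
      rw [card_eq_one.1 hn, isComplement'_bot_left] at h1
      exact not_pgroup (qs_top_iff.2 h) Nat.prime_two P.isPGroup' h1.ge)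
  have := Fact.mk hq
  obtain ⟨x, hx, o, -⟩ := LBal.exists_central (Tech.isPGroup_zpowers_of_pow hk) le_rfl le_normalizer
    (zpowers_ne_bot.2 fun e => h3 (e ▸ one_mem _))
  refine ⟨U.map L.subtype, map_subtype_le _, (P.isPGroup'.to_le hU).map _,
    fun e => h1 ((map_eq_bot_iff_of_injective _ L.subtype_injective).1 e), x, x.2,
    le_normalizer_map L.subtype (mem_map_of_mem _ (zpowers_le.2 hg hx)), ?_⟩
  rw [orderOf_coe, o]
  exact ⟨hq, h2⟩

end CfsgLib.QT2.St
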