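import Mathlib
import Cfsg.Agent.Lib.QT2.Basic
import Cfsg.Agent.Lib.QT2.SetA
import Cfsg.Agent.Lib.Fgs.SymSolv
import Cfsg.Agent.S2901

/-!
The counterexample: general facts on the context.
-/

set_option autoImplicit false
set_option linter.unusedSectionVars false

namespace CfsgLib.QT2

open Cfsg Subgroup CfsgLib.LBal CfsgLib.LAE CfsgLib.Comp St
open scoped commutatorElement

variable {G : Type*} [Group G] [Finite G] {T : Sylow 2 G} {z : G} {L K : Subgroup G}

theorem SmallQ.rank_one (h : SmallQ L) {p : ℕ} (hp : p.Prime) (h2 : p ≠ 2) {H : Subgroup G} (hr : PRankLE p 2 H)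
    {x : G} (hx : x ∈ L) (hH : x ∈ H) (ho : orderOf x = p) :
    PRankLE p 1 (H ⊓ centralizer (L : Set G) : Subgroup G) := by
  have xp : x ^ p = 1 := ho ▸ pow_orderOf_eq_one x
  refine St.rank_one hp hr inf_le_left hH xp (fun y hy => (hy.2 x hx).symm) fun e => hp.ne_one ?_
  rw [← ho, eq_one_of (center_two h.two) hp h2 ⟨hx, e.2⟩ xp, orderOf_one]

/-- a non-central 2-element -/
theorem SmallQ.exists_two (h : SmallQ L) :
    ∃ y ∈ L, y ∉ centralizer (L : Set G) ∧ y ^ 2 ∈ centralizer (L : Set G) := by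
  obtain ⟨a, -, ha, -⟩ := h.sm.four
  exact exists_pow_mem Nat.prime_two (ha ▸ orderOf_dvd_natCard a)

namespace Ctx

variable (h : Ctx T z L K)
include h

theorem symm : Ctx T z K L :=
  { h with
    rcL := h.rcK, rcK := h.rcL, ne := h.ne.symm, swap := let ⟨u, hu, h1, h2⟩ := h.swap; ⟨u, hu, h2, h1⟩
    two := h.two', two' := h.two, smL := h.smK, smK := h.smL }

theorem conj (g : G) : Ctx (g • T) (g * z * g⁻¹) (cj g L) (cj g K) := by
  have hT : ∀ x, x ∈ (g • T : Sylow 2 G) ↔ g⁻¹ * x * g ∈ (T : Subgroup G) := fun x =>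
    mem_cj (H := (T : Subgroup G))
  have e : ∀ (x : G) (A : Subgroup G), cj x (cj g A) = cj g (cj (g⁻¹ * x * g) A) := fun x A => by
    rw [← cj_mul, ← cj_mul]; congr 1; group
  have k : ∀ x ∈ centralizer ({g * z * g⁻¹} : Set G), g⁻¹ * x * g ∈ centralizer ({z} : Set G) :=
    fun x hx => mem_cj.1 (cj_cent1 g z ▸ hx)
  refine { h with
    zT := (hT _).2 (by simpa [mul_assoc] using h.zT), zc := fun t ht => mc1.1 ?_
    z2 := (Tech.orderOf_conj_eq g z).trans h.z2, rcL := cj_cent1 g z ▸ h.rcL.conj g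
    rcK := cj_cent1 g z ▸ h.rcK.conj g, ne := fun e => h.ne (cj_inj g e), swap := ?_
    two := fun x hx => ?_, two' := fun x hx => ?_, smL := h.smL.cj g, smK := h.smK.cj g }
  · rw [← cj_cent1, mem_cj]
    exact mc1.2 (h.zc _ ((hT t).1 ht))
  · obtain ⟨u, hu, h1, h2⟩ := h.swap
    refine ⟨g * u * g⁻¹, (hT _).2 (by simpa [mul_assoc] using hu), ?_, ?_⟩ <;>
      rw [← cj_mul, inv_mul_cancel_right, cj_mul]
    exacts [congrArg _ h1, congrArg _ h2]
  · rw [e]; exact (h.two _ (k x hx)).imp (congrArg _) (congrArg _)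
  · rw [e]; exact (h.two' _ (k x hx)).imp (congrArg _) (congrArg _)

theorem comm : L ≤ centralizer (K : Set G) := h.rcL.le_centralizer h.rcK h.ne

theorem zz : z * z = 1 := Tech.mul_self_of_orderOf_two h.z2

theorem zL : z ∈ centralizer (L : Set G) := le_c1.1 h.rcL.le

theorem T_le : (T : Subgroup G) ≤ centralizer {z} := fun t ht => mc1.2 (h.zc t ht)

theorem le_normL : L ⊔ K ≤ normalizer (L : Set G) := sup_comm L K ▸ sup_le_norm h.symm.comm

theorem le_normK : L ⊔ K ≤ normalizer (K : Set G) := sup_le_norm h.comm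

theorem not_le : ¬ L ≤ K := fun e => qs_sub_not_le_centralizer h.smL.qs (h.comm.trans (centralizer_le e))

theorem cent_le : centralizer {z} ≤ normalizer ((L ⊔ K : Subgroup G) : Set G) := fun g hg => by
  rw [norm_iff, cj_sup]
  rcases h.two g hg with e | e <;> rcases h.two' g hg with e' | e'
  · rw [e, e']
  · exact absurd (cj_inj g (e.trans e'.symm)) h.ne
  · exact absurd (cj_inj g (e.trans e'.symm)) h.ne
  · rw [e, e', sup_comm]

theorem comp_cases {M : Subgroup G} (hM : RC M (L ⊔ K)) : M = L ∨ M = K := by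
  have hs : L ⊔ K ≤ centralizer {z} := sup_le h.rcL.le h.rcK.le
  by_contra hc
  rw [not_or] at hc
  exact qs_sub_not_le_centralizer hM.2 fun x hx => centralizer_le hM.le (mem_cent_sup.2
    ⟨hM.le_centralizer (h.rcL.of_le le_sup_left hs) hc.1 hx,
      hM.le_centralizer (h.rcK.of_le le_sup_right hs) hc.2 hx⟩)

theorem cases {g : G} (hg : g ∈ normalizer ((L ⊔ K : Subgroup G) : Set G)) :
    (cj g L = L ∧ cj g K = K) ∨ (cj g L = K ∧ cj g K = L) := by
  have hs : L ⊔ K ≤ centralizer {z} := sup_le h.rcL.le h.rcK.le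
  have h1 := (h.rcL.of_le le_sup_left hs).conj g
  have h2 := (h.rcK.of_le le_sup_right hs).conj g
  rw [show (L ⊔ K).map _ = _ from norm_iff.1 hg] at h1 h2
  rcases h.comp_cases h1 with e | e <;> rcases h.comp_cases h2 with e' | e'
  · exact absurd (cj_inj g (e.trans e'.symm)) h.ne
  · exact .inl ⟨e, e'⟩
  · exact .inr ⟨e, e'⟩
  · exact absurd (cj_inj g (e.trans e'.symm)) h.ne

theorem normK {g : G} (hg : g ∈ normalizer ((L ⊔ K : Subgroup G) : Set G)) (h1 : g ∈ normalizer (L : Set G)) :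
    g ∈ normalizer (K : Set G) :=
  (h.cases hg).elim (fun e => norm_iff.2 e.2) fun e => absurd ((norm_iff.1 h1).symm.trans e.1) h.ne

theorem swap_of {g : G} (hg : g ∈ normalizer ((L ⊔ K : Subgroup G) : Set G)) (h1 : g ∉ normalizer (L : Set G)) :
    cj g L = K ∧ cj g K = L := (h.cases hg).resolve_left fun e => h1 (norm_iff.2 e.1)

theorem mul_mem_norm {a b : G} (ha : a ∈ normalizer ((L ⊔ K : Subgroup G) : Set G))
    (hb : b ∈ normalizer ((L ⊔ K : Subgroup G) : Set G)) (h1 : a ∉ normalizer (L : Set G))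
    (h2 : b ∉ normalizer (L : Set G)) : a * b ∈ normalizer (L : Set G) := by
  rw [norm_iff, cj_mul, (h.swap_of hb h2).1, (h.swap_of ha h1).2]

theorem comm_mem_norm {a b : G} (ha : a ∈ normalizer ((L ⊔ K : Subgroup G) : Set G))
    (hb : b ∈ normalizer ((L ⊔ K : Subgroup G) : Set G)) : ⁅a, b⁆ ∈ normalizer (L : Set G) := by
  rw [norm_iff, commutatorElement_def, cj_mul, cj_mul, cj_mul]
  rcases h.cases ha with ⟨a1, a2⟩ | ⟨a1, a2⟩ <;> rcases h.cases hb with ⟨b1, b2⟩ | ⟨b1, b2⟩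
  · rw [cj_eq_inv b1, cj_eq_inv a1, b1, a1]
  · rw [cj_eq_inv b2, cj_eq_inv a2, b2, a1]
  · rw [cj_eq_inv b1, cj_eq_inv a2, b2, a2]
  · rw [cj_eq_inv b2, cj_eq_inv a1, b1, a2]

theorem card_eq' : Nat.card K = Nat.card L := let ⟨u, _, e, _⟩ := h.swap; e ▸ card_cj u L

theorem card_eq : Nat.card (K ⧸ center K) = Nat.card (L ⧸ center L) :=
  let ⟨u, _, e, _⟩ := h.swap; e ▸ card_quot_cj u L

/-- a good prime -/
theorem exists_good : ∃ p : ℕ, p.Prime ∧ p ≠ 2 ∧ p ∣ Nat.card (L ⧸ center L) ∧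
    PRankLE p 1 (centralizer (L : Set G)) ∧
    ¬ p ∣ Nat.card (centralizer ((L ⊔ K : Subgroup G) : Set G)) := by
  obtain ⟨U, hU, h1, h2, x, hx, h3, hp, h4⟩ := St.exists_good h.smL.qs h.smL.two
  have hr := h.smL.rank_one hp h4 (rank_two h.qt hp h4 h1 h2 le_rfl) hx h3 rfl
  rw [inf_eq_right.2 fun _ hy => cn (centralizer_le hU hy)] at hr
  refine ⟨_, hp, h4, ?_, hr, fun hd => ?_⟩
  · have := Fact.mk hp
    have e : orderOf ((⟨x, hx⟩ : L) : L ⧸ center L) = orderOf x := by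
      refine orderOf_eq_prime ?_ fun e => hp.ne_one ?_
      · rw [← QuotientGroup.mk_pow, show (⟨x, hx⟩ : L) ^ orderOf x = 1 from Subtype.ext (pow_orderOf_eq_one x)]
        rfl
      · rw [eq_one_of (center_two h.smL.two) hp h4 ⟨hx, mem_center_sub.1 ((QuotientGroup.eq_one_iff _).1 e)⟩
          (pow_orderOf_eq_one x), orderOf_one]
    exact e ▸ orderOf_dvd_natCard _
  · obtain ⟨w, hw, o⟩ := exists_orderOf hp hd
    exact not_two hp h4 hr h.smK.two h.symm.comm (h.card_eq' ▸ L.orderOf_dvd_natCard hx)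
      (mem_cent_sup.1 hw).1 (mem_cent_sup.1 hw).2 o

theorem le_norm_of_perfect {D : Subgroup G} (hD : ⁅D, D⁆ = D)
    (hn : D ≤ normalizer ((L ⊔ K : Subgroup G) : Set G)) : D ≤ normalizer (L : Set G) :=
  hD ▸ commutator_le.2 fun _ ha _ hb => h.comm_mem_norm (hn ha) (hn hb)

/-- Lemma P -/
theorem le_sup {D : Subgroup G} (hD : IsQuasisimple D) (hn : D ≤ normalizer ((L ⊔ K : Subgroup G) : Set G))
    (hc : Nat.card (D ⧸ center D) = Nat.card (L ⧸ center L)) : D ≤ L ⊔ K := by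
  have hp := qs_sub_perfect hD
  have n1 := h.le_norm_of_perfect hp hn
  obtain ⟨p, pp, -, p1, -, p2⟩ := h.exists_good
  rcases qs_sub_normal hD (N := D ⊓ (L ⊔ K)) inf_le_left
    ((le_inf le_normalizer hn).trans inf_normalizer_le_normalizer_inf) with e | e
  · exact inf_eq_left.1 e
  obtain ⟨y, hy, y1, y2⟩ := exists_pow_mem pp (hc ▸ p1)
  obtain ⟨l, hl, c1⟩ := h.smL.inner_of_perfect hp n1 y hy
  obtain ⟨k, hk, c2⟩ := h.smK.inner_of_perfect hp (fun d hd => h.normK (hn hd) (n1 hd)) y hy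
  have lk : l * k = k * l := (h.comm hl k hk).symm
  have hq : y * (k * l)⁻¹ ∈ centralizer ((L ⊔ K : Subgroup G) : Set G) := mem_cent_sup.2
    ⟨by rw [mul_inv_rev, ← mul_assoc]; exact mul_mem c1 (inv_mem (h.symm.comm hk)),
      by rw [← lk, mul_inv_rev, ← mul_assoc]; exact mul_mem c2 (inv_mem (h.comm hl))⟩
  have hm : k * l ∈ L ⊔ K := mul_mem (mem_sup_right hk) (mem_sup_left hl)
  have := Commute.mul_pow (hq _ hm).symm (Nat.card (centralizer ((L ⊔ K : Subgroup G) : Set G)))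
  rw [inv_mul_cancel_right, orderOf_dvd_iff_pow_eq_one.1 (Subgroup.orderOf_dvd_natCard _ hq), one_mul] at this
  exact absurd (mem_of_pow_mem_of_pow_mem ((Nat.Prime.coprime_iff_not_dvd pp).2 p2) y2
    (e ⟨pow_mem hy _, this ▸ pow_mem hm _⟩)) y1

theorem not_odd {x : G} (hp : (orderOf x).Prime) (h2 : orderOf x ≠ 2) (hd : orderOf x ∣ Nat.card L)
    (hz : x ∈ centralizer ({z} : Set G)) : x ∉ centralizer ((L ⊔ K : Subgroup G) : Set G) := fun hx => by
  obtain ⟨l, hl, o⟩ := exists_orderOf hp hd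
  exact not_two hp h2 (h.smL.rank_one hp h2 (rank_cent h.qt hp h2 h.z2) hl (h.rcL.le hl) o) h.smK.two
    (le_inf h.rcK.le h.symm.comm) (h.card_eq' ▸ hd) ⟨hz, (mem_cent_sup.1 hx).1⟩ (mem_cent_sup.1 hx).2 rfl

/-- Fact A -/
theorem mem_of_le {g : G} (hg : cj g (L ⊔ K) ≤ normalizer ((L ⊔ K : Subgroup G) : Set G)) :
    g ∈ normalizer ((L ⊔ K : Subgroup G) : Set G) := by
  rw [cj_sup, sup_le_iff] at hg
  refine norm_of_le ?_
  rw [cj_sup]
  exact sup_le (h.le_sup (qs_cj h.smL.qs g) hg.1 (card_quot_cj g L))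
    (h.le_sup (qs_cj h.smK.qs g) hg.2 ((card_quot_cj g K).trans h.card_eq))

/-- the diagonal subgroup of an involution interchanging `L` and `K` -/
theorem diag {t : G} (h2 : t * t = 1) (ht : cj t L = K) : ∃ D : Subgroup G, IsQuasisimple D ∧
    Nat.card (D ⧸ center D) = Nat.card (L ⧸ center L) ∧ D ≤ (L ⊔ K) ⊓ centralizer {t} ∧
      ∀ d, d ∈ D ↔ ∃ l ∈ L, d = l * (t * l * t⁻¹) := by
  have hK : ∀ l ∈ L, t * l * t⁻¹ ∈ K := fun l hl => ht ▸ conj_mem_cj.2 hl
  have c : ∀ l ∈ L, ∀ m ∈ L, t * l * t⁻¹ * m = m * (t * l * t⁻¹) := fun l hl m hm => h.comm hm _ (hK l hl)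
  let f : L →* G := MonoidHom.mk' (fun l => l * (t * l * t⁻¹)) fun a b => by
    rw [coe_mul, ← conj_mul, mul_assoc, mul_assoc (a : G), ← mul_assoc (b : G), ← c a a.2 b b.2,
      mul_assoc _ (b : G)]
  have hm : ∀ d, d ∈ (⊤ : Subgroup L).map f ↔ ∃ l ∈ L, d = l * (t * l * t⁻¹) := fun d =>
    ⟨fun ⟨l, _, e⟩ => ⟨l, l.2, e.symm⟩, fun ⟨l, hl, e⟩ => ⟨⟨l, hl⟩, trivial, e.symm⟩⟩
  obtain ⟨q1, -, ⟨e⟩⟩ := quot_map (qs_top_iff.2 h.smL.qs) f fun e => h.not_le fun l hl => by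
    have := (hm _).2 ⟨l, hl, rfl⟩
    rw [e, mem_bot, mul_eq_one_iff_eq_inv] at this
    exact this ▸ inv_mem (hK l hl)
  refine ⟨_, q1, (Nat.card_congr e.toEquiv).symm.trans (Nat.card_congr (zq topEquiv).toEquiv),
    fun d hd => ?_, hm⟩
  obtain ⟨l, hl, rfl⟩ := (hm d).1 hd
  refine ⟨mul_mem (mem_sup_left hl) (mem_sup_right (hK l hl)), mc1.2 ?_⟩
  calc l * (t * l * t⁻¹) * t = t * l * t⁻¹ * l * t := by rw [c l hl l hl]
    _ = _ := by simp only [inv_eq_of_mul_eq_one_right h2, mul_assoc]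

theorem proj {D : Subgroup G} (hD : IsQuasisimple D) (h1 : D ≤ L ⊔ K)
    (hc : Nat.card (D ⧸ center D) = Nat.card (L ⧸ center L)) :
    D = K ∨ ∀ x ∈ L, ∃ d ∈ D, x⁻¹ * d ∈ centralizer (L : Set G) := by
  rw [card_quot, card_quot] at hc
  rcases qs_sub_normal hD (N := D ⊓ centralizer (L : Set G)) inf_le_left
    ((le_inf le_normalizer fun d hd => norm_cent (h.le_normL (h1 hd))).trans
      inf_normalizer_le_normalizer_inf) with e | e
  · have hK : D ≤ K := le_of_perfect (qs_sub_perfect hD) fun d hd => by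
      obtain ⟨k, hk, l, hl, rfl⟩ := (mem_sup h.symm.comm).1 (sup_comm L K ▸ h1 hd)
      have : l ∈ centralizer (L : Set G) := by
        simpa using mul_mem (inv_mem (h.symm.comm hk)) (inf_eq_left.1 e hd)
      refine ⟨k, hk, ?_, ?_⟩ <;> rw [inv_mul_cancel_left]
      exacts [centralizer_le h1 (mem_cent_sup.2 ⟨this, h.comm hl⟩), h.comm hl]
    refine .inl (le_antisymm hK (le_of_perfect (qs_sub_perfect h.smK.qs) fun k hk => ?_))
    obtain ⟨d, hd, c⟩ := cover2 (C := centralizer (K : Set G)) (A := D) (B := K)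
      (fun a ha => ⟨a, hK ha, by simp⟩) (by
        rw [← card_quot, h.card_eq, card_quot, ← hc]
        exact relIndex_le fun x _ hx => centralizer_le hK hx) hk
    have c' : d⁻¹ * k ∈ centralizer (K : Set G) := by simpa using inv_mem c
    exact ⟨d, hd, c', centralizer_le hK c'⟩
  · refine .inr fun x hx => cover2 (fun a ha => ?_) (hc ▸ relIndex_le fun y hy c => e ⟨hy, c⟩) hx
    obtain ⟨l, hl, k, hk, rfl⟩ := (mem_sup h.comm).1 (h1 ha)
    exact ⟨l, hl, by simpa using h.symm.comm hk⟩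

theorem cent_of_cent {D : Subgroup G} (hD : IsQuasisimple D) (h1 : D ≤ L ⊔ K)
    (hc : Nat.card (D ⧸ center D) = Nat.card (L ⧸ center L)) (hK : D ≠ K) {y : G}
    (h2 : y ∈ normalizer (L : Set G)) (h3 : y ∈ centralizer (D : Set G)) : y ∈ centralizer (L : Set G) := by
  refine mem_centralizer_of_perfect (qs_sub_perfect h.smL.qs) h2 fun x hx => ?_
  obtain ⟨d, hd, c⟩ := (h.proj hD h1 hc).resolve_left hK x hx
  rw [show ⁅y, x⁆ = (y * d * y⁻¹) * d⁻¹ * (d * ⁅y, (x⁻¹ * d)⁻¹⁆ * d⁻¹) by group, ← h3 d hd,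
    mul_inv_cancel_right, mul_inv_cancel, one_mul]
  exact conj_mem (norm_cent (h.le_normL (h1 hd))) (comm_mem_right (norm_cent h2) (inv_mem c))

theorem exists_central :
    ∃ v ∈ L, orderOf v = 2 ∧ (T : Subgroup G) ⊓ normalizer (L : Set G) ≤ centralizer {v} :=
  exists_cent_invol (T.isPGroup'.to_le inf_le_left) inf_le_right (even_card_of_qs h.smL.qs)

theorem big {t : G} (ht : (T : Subgroup G) ⊓ normalizer (L : Set G) ≤ centralizer {t}) :
    Big (centralizer {z} ⊓ centralizer ({t} : Set G)) := by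
  refine ⟨_, le_inf (inf_le_left.trans h.T_le) ht, T.isPGroup'.to_le inf_le_left, fun S => ?_⟩
  rw [Nat.card_congr (S.equiv T).toEquiv, ← Tech.card_mul_relIndex' (inf_le_left : _ ⊓ normalizer (L : Set G) ≤ _),
    inf_relIndex_left, mul_comm]
  exact Nat.mul_le_mul_right _ (Sect.relIndex_le_two fun x hx y hy h1 h2 => h.mul_mem_norm
    (inv_mem (h.cent_le (h.T_le hx))) (h.cent_le (h.T_le hy)) (fun e => h1 (inv_mem_iff.1 e)) h2)

/-- the normalizer of `LK` is not simple -/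
theorem not_simple {P : Subgroup G} (h1 : L ⊔ K ≤ P) (h2 : P ≤ normalizer ((L ⊔ K : Subgroup G) : Set G)) :
    ¬ IsSimpleGroup P := fun _ => by
  have k : ∀ A : Subgroup G, L ≤ A → P ≤ normalizer (A : Set G) → P ≤ A := fun A h3 h4 =>
    subgroupOf_eq_top.1 (((normal_subgroupOf_of_le_normalizer h4).eq_bot_or_eq_top).resolve_left fun e =>
      qs_sub_ne_bot h.smL.qs (eq_bot_iff.2 fun x hx => congrArg Subtype.val
        (mem_bot.1 (e.le (show (⟨x, h1 (mem_sup_left hx)⟩ : P) ∈ _ from h3 hx)))))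
  exact h.symm.not_le ((le_sup_right.trans h1).trans (k L le_rfl ((k _ le_sup_left h2).trans h.le_normL)))

/-- the end: Holt's theorem -/
theorem holt (hu : ∀ g : G, g * z * g⁻¹ ∈ centralizer ({z} : Set G) →
    g ∈ normalizer ((L ⊔ K : Subgroup G) : Set G)) : False := by
  have := h.simple
  have hT := h.T_le.trans h.cent_le
  have hL : L ≤ normalizer ((L ⊔ K : Subgroup G) : Set G) := le_sup_left.trans le_normalizer
  rcases Cfsg.Agent.S2901.result h.ncomm (normalizer ((L ⊔ K : Subgroup G) : Set G))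
    (fun e => h.not_simple le_top e.ge topEquiv.isSimpleGroup) z (hT h.zT) ⟨h.z2, T, h.zT, h.zc⟩ h.cent_le
    (fun g hg => by
      obtain ⟨n, hn, e⟩ := (Tech.IsSylowIn.of_sylow T hT).exists_conj_mem hg (Tech.isPGroup_two_zpowers (by
        rw [conj_mul, h.zz]; simp))
      exact ⟨g, (mul_mem_cancel_left hn).1 (hu _ (by simpa [mul_assoc] using h.T_le e)), rfl⟩) with
    ⟨-, S, e⟩ | ⟨n, hn, -, ⟨e⟩⟩
  · rw [e] at hL
    obtain ⟨y, hy, y1, y2⟩ := h.smL.exists_two
    obtain ⟨k, hk⟩ := Tech.isPGroup_iff_mem.1 (center_two h.smL.two) _ ⟨pow_mem hy 2, y2⟩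
    have hS := (Tech.IsSylowIn.of_sylow_top S).le_of_normalizes (Q := zpowers y)
      (Tech.isPGroup_zpowers_of_pow (k := k + 1) (by rwa [pow_succ', pow_mul])) le_top (zpowers_le.2 (hL hy))
    rcases qs_sub_normal h.smL.qs (N := L ⊓ S) inf_le_left
      ((le_inf le_normalizer hL).trans inf_normalizer_le_normalizer_inf) with e1 | e1
    exacts [not_pgroup h.smL.qs Nat.prime_two S.isPGroup' (inf_eq_left.1 e1), y1 (e1 ⟨hy, hS (mem_zpowers y)⟩)]
  · obtain rfl | h5 := hn.eq_or_lt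
    · have := Fgs.isSolvable_alt_four
      exact qs_sub_not_le_solvable h.smL.qs (Group.isSolvable_of_isSolvable_injective (f := e.toMonoidHom) e.injective) hL
    · have := alternatingGroup.isSimpleGroup (α := Fin (n - 1)) (by simp; omega)
      exact h.not_simple le_normalizer le_rfl e.isSimpleGroup

end Ctx

end CfsgLib.QT2
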