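import Mathlib
import Cfsg.Agent.Lib.QT2.List
import Cfsg.Agent.Lib.QT2.SetB

/-!
The counterexample: general facts (the lemmas on `Ctx` are in `SetB`).
-/

set_option autoImplicit false

namespace CfsgLib.QT2

open Cfsg Subgroup CfsgLib.LBal CfsgLib.LAE CfsgLib.Comp St
open scoped commutatorElement

variable {G : Type*} [Group G] [Finite G] {T : Sylow 2 G} {z : G} {L K : Subgroup G}

/-- the centre of a component of an involution centralizer is a 2-group -/
theorem center_two_of_rc (hE : IsOfQTEvenType G) (h2 : orderOf z = 2) (hL : RC L (centralizer {z})) :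
    IsPGroup 2 (center L) := ZStar.isPGroup_center_of_oddCore fun N hN ho => by
  have h1 := hL.1.opOf_le (p := 2)
  rw [PComp.opOf_def (centralizer {z}), show pPrimeCore 2 _ = ⊥ from hE.1 z h2, Subgroup.map_bot, le_bot_iff,
    PComp.opOf_def, map_eq_bot_iff_of_injective _ L.subtype_injective] at h1
  exact le_bot_iff.1 (h1 ▸ Core.le_pPrimeCore (Nat.coprime_two_right.2 ho))

theorem exists_ctx [IsSimpleGroup G] (hG : ¬ IsMulCommutative G) (hQ : IsQuasithin G) (hE : IsOfQTEvenType G)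
    (hT : z ∈ (T : Subgroup G)) (hc : ∀ t ∈ (T : Subgroup G), t * z = z * t) (h2 : orderOf z = 2)
    (hL : RC L (centralizer {z})) (hn : ¬ centralizer {z} ≤ normalizer (L : Set G)) :
    ∃ K, Ctx T z L K ∧ (center L = ⊥ ∨ Cov L) := by
  obtain ⟨c, hz, hcL⟩ := SetLike.not_le_iff_exists.1 hn
  have hK : RC (cj c L) (centralizer {z}) := hL.conj_mem hz
  have ne : L ≠ cj c L := fun e => hcL (norm_iff.2 e.symm)
  have t1 := center_two_of_rc hE h2 hL
  have t2 := center_two_of_rc hE h2 hK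
  have r1 : ∀ p : ℕ, p.Prime → p ≠ 2 → PRankLE p 1 L := fun p hp p2 =>
    SylTools.pRankLE_subgroup_iff.2 fun A hA h3 h4 => by
      by_cases h5 : A = ⊥
      · rw [h5, card_bot]; exact Nat.one_le_pow _ _ hp.pos
      obtain ⟨a, ha, a1⟩ := (A.bot_or_exists_ne_one).resolve_left h5
      have m : c * a * c⁻¹ ∈ cj c L := conj_mem_cj.2 (hA ha)
      have e : (c * a * c⁻¹) ^ p = 1 := by rw [conj_pow, h4 a ha]; simp
      have m' := hK.le_centralizer hL ne.symm m
      exact SylTools.pRankLE_subgroup_iff.1 (rank_one hp (rank_cent hQ hp p2 h2) hL.le (hK.le m) e m'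
        fun h6 => a1 (by simpa using eq_one_of (center_two t1) hp p2 ⟨h6, m'⟩ e)) A hA h3 h4
  have e := subgroupOfEquivOfLe hL.le
  obtain ⟨s1, s2⟩ := list hL.comp.2 (t1.of_equiv ((e.symm.subgroupMap _).trans
      (MulEquiv.subgroupCongr (map_center_of_mulEquiv e.symm)))) (hE.2 z h2 _ hL.comp)
    fun p hp p2 => (SylTools.pRankLE_congr e).2 (r1 p hp p2)
  have sm : SmallQ L := ⟨hL.2, t1, s1.congr (zq e)⟩
  have two : ∀ g ∈ centralizer ({z} : Set G), cj g L = L ∨ cj g L = cj c L := fun g hg => by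
    by_contra h3
    rw [not_or] at h3
    have hM : RC (cj g L) (centralizer {z}) := hL.conj_mem hg
    obtain ⟨U, -, -, -, x, hx, -, hp, p2⟩ := St.exists_good hL.2 t1
    have m : g * x * g⁻¹ ∈ cj g L := conj_mem_cj.2 hx
    exact not_two hp p2 (sm.rank_one hp p2 (rank_cent hQ hp p2 h2) hx (hL.le hx) rfl) t2
      (le_inf hK.le (hK.le_centralizer hL ne.symm)) (card_cj c L ▸ L.orderOf_dvd_natCard hx)
      ⟨hM.le m, hM.le_centralizer hL h3.1 m⟩ (hM.le_centralizer hK h3.2 m) (Tech.orderOf_conj_eq g x)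
  have two' : ∀ g ∈ centralizer ({z} : Set G), cj g (cj c L) = cj c L ∨ cj g (cj c L) = L := fun g hg =>
    cj_mul g c L ▸ (two _ (mul_mem hg hz)).symm
  have hTz : (T : Subgroup G) ≤ centralizer {z} := fun t ht => mc1.2 (hc t ht)
  obtain ⟨u, hu, huL⟩ : ∃ u ∈ (T : Subgroup G), u ∉ normalizer (L : Set G) :=
    SetLike.not_le_iff_exists.1 fun h3 => (Tech.IsSylowIn.of_sylow T hTz).not_dvd (by
      refine Dvd.dvd.trans (dvd_of_eq (relIndex_eq_two_iff_exists_notMem_and'.2
        ⟨c⁻¹, inv_mem hz, fun e => hcL (inv_mem_iff.1 e), fun b hb => ?_⟩).symm) (relIndex_dvd_of_le_left _ h3)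
      exact (two b hb).symm.imp (fun e => by rw [norm_iff, cj_mul, e, cj_inv_cj]) norm_iff.2)
  have u1 := (two u (hTz hu)).resolve_left fun e => huL (norm_iff.2 e)
  refine ⟨_, ⟨inferInstance, hG, hQ, hE, hT, hc, h2, hL, hK, ne, ⟨u, hu, u1, (two' u (hTz hu)).resolve_left
    fun e => ne (cj_inj u (u1.trans e.symm))⟩, two, two', sm, sm.cj c⟩, s2.imp (fun h3 => ?_) (·.congr e)⟩
  rw [← map_center_of_mulEquiv e, h3, Subgroup.map_bot]

end CfsgLib.QT2
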