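import Mathlib
import Cfsg.Agent.Lib.QT2.Setup

/-!
A conjugate of `z` interchanging `L` and `K`.
-/

set_option autoImplicit false

namespace CfsgLib.QT2

open Cfsg Subgroup CfsgLib.LBal CfsgLib.LAE
open scoped commutatorElement

variable {G : Type*} [Group G] [Finite G] {T : Sylow 2 G} {z : G} {L K : Subgroup G}

/-- case (S) reduces to case (N) -/
theorem Ctx.false_of (h : Ctx T z L K) (h0 : ∃ a ∈ L, a * a = 1 ∧ a ∉ centralizer (L : Set G))
    (hC : ∀ g ∉ normalizer ((L ⊔ K : Subgroup G) : Set G), g * z * g⁻¹ ∉ centralizer (L : Set G) ∧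
      g * z * g⁻¹ ∉ centralizer (K : Set G))
    (hN : ∀ g ∉ normalizer ((L ⊔ K : Subgroup G) : Set G), g * z * g⁻¹ ∈ centralizer ({z} : Set G) →
      g * z * g⁻¹ ∉ normalizer (L : Set G)) : False := by
  refine h.holt fun g h1 => by_contra fun hg => ?_
  have h' := h.conj g
  have z2 : z * z = 1 := by rw [← sq, ← h.z2, pow_orderOf_eq_one]
  have r2 : g * z * g⁻¹ * (g * z * g⁻¹) = 1 := by rw [← sq, ← h'.z2, pow_orderOf_eq_one]
  have hz : z ∈ centralizer ({g * z * g⁻¹} : Set G) := mem_centralizer_singleton_iff.2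
    (mem_centralizer_singleton_iff.1 h1).symm
  have hQ : L ⊔ K ≤ centralizer {z} := sup_le h.rcL.le h.rcK.le
  have k : ∀ M : Subgroup G, z ∈ centralizer (cj g M : Set G) → g⁻¹ * z * g⁻¹⁻¹ ∈ centralizer (M : Set G) :=
    fun M hM m hm => by
      have := hM _ (conj_mem_map g hm)
      calc m * (g⁻¹ * z * g⁻¹⁻¹) = g⁻¹ * (g * m * g⁻¹ * z) * g := by group
        _ = _ := by rw [this]; group
  obtain ⟨D, d1, d2, d3, -⟩ := h.diag r2 ((h.cases (h.cent_le h1)).resolve_left fun h2 =>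
    hN g hg h1 (mem_normalizer_iff_map.2 h2.1)).1
  have e : Nat.card (cj g L ⧸ center (cj g L)) = Nat.card (L ⧸ center L) :=
    Nat.card_congr (zq (L.equivMapOfInjective _ (MulAut.conj g).injective)).toEquiv.symm
  have d4 := h'.le_sup d1 ((d3.trans inf_le_right).trans h'.cent_le) (d2.trans e.symm)
  have d5 : z ∈ centralizer (D : Set G) := mem_centralizer_singleton_of.1 ((d3.trans inf_le_left).trans hQ)
  have hg' := hC g⁻¹ (mt inv_mem_iff.1 hg)
  rcases h'.cases (h'.cent_le hz) with h2 | h2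
  · exact hg'.1 (k L (h'.cent_of_cent d1 d4 (d2.trans e.symm) (fun h3 => hg'.2 (k K (h3 ▸ d5)))
      (mem_normalizer_iff_map.2 h2.1) d5))
  obtain ⟨E, e1, e2, e3, e4⟩ := h'.diag z2 h2.1
  have e5 := h.le_sup e1 ((e3.trans inf_le_right).trans h.cent_le) (e2.trans e)
  obtain ⟨a, a1, a2, a3⟩ := h0
  obtain ⟨l, hl⟩ : ∃ l, l = g * a * g⁻¹ := ⟨_, rfl⟩
  have l1 : l ∈ cj g L := hl ▸ conj_mem_map g a1
  have l2 : l⁻¹ = l := inv_eq_of_mul_eq_one_left (by
    rw [hl]; calc _ = g * (a * a) * g⁻¹ := by group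
      _ = 1 := by rw [a2]; group)
  have e6 : l * (z * l * z⁻¹) ∈ E := (e4 _).2 ⟨l, l1, rfl⟩
  have e7 : l * z * l⁻¹ = l * (z * l * z⁻¹) * z := by rw [l2]; group
  have zQ : z ∈ centralizer ((L ⊔ K : Subgroup G) : Set G) := mem_centralizer_singleton_of.1 hQ
  by_cases hl' : l ∈ normalizer ((L ⊔ K : Subgroup G) : Set G)
  · have h3 : l * (z * l * z⁻¹) ∈ centralizer ((L ⊔ K : Subgroup G) : Set G) :=
      (mul_mem_cancel_right zQ).1 (e7 ▸ conj_mem_of_normalizer (LBal.normalizer_le_normalizer_centralizer _ hl') zQ)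
    have c : ∀ x ∈ cj g L, z * x * z⁻¹ ∈ centralizer (cj g L : Set G) := fun x hx =>
      h'.symm.comm (h2.1 ▸ conj_mem_map z hx)
    have h4 : l ∈ centralizer (cj g L : Set G) := by
      refine mem_centralizer_of_perfect (Comp.qs_sub_perfect h'.smL.qs) (le_normalizer l1) fun x hx => ?_
      have h5 := h3 _ (e5 ((e4 _).2 ⟨x, hx, rfl⟩))
      have h6 : ⁅l, x⁆ = ⁅z * l * z⁻¹, z * x * z⁻¹⁆⁻¹ := by
        have h7 : l * x * (z * l * z⁻¹ * (z * x * z⁻¹)) = x * l * (z * x * z⁻¹ * (z * l * z⁻¹)) := by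
          calc _ = l * (x * (z * l * z⁻¹)) * (z * x * z⁻¹) := by group
            _ = l * (z * l * z⁻¹) * (x * (z * x * z⁻¹)) := by rw [c l l1 x hx]; group
            _ = x * (z * x * z⁻¹ * l) * (z * l * z⁻¹) := by rw [← h5]; group
            _ = _ := by rw [← c x hx l l1]; group
        have h8 := (mul_mem (mul_mem (c x hx) (c l l1)) (inv_mem (mul_mem (c l l1) (c x hx)))) _ (mul_mem hx l1)
        calc ⁅l, x⁆ = l * x * (z * l * z⁻¹ * (z * x * z⁻¹)) * (z * l * z⁻¹ * (z * x * z⁻¹))⁻¹ * (x * l)⁻¹ := by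
              rw [commutatorElement_def]; group
          _ = x * l * (z * x * z⁻¹ * (z * l * z⁻¹) * (z * l * z⁻¹ * (z * x * z⁻¹))⁻¹) * (x * l)⁻¹ := by rw [h7]; group
          _ = _ := by rw [h8, commutatorElement_def]; group
      rw [h6, commutatorElement_def]
      exact inv_mem (mul_mem (mul_mem (mul_mem (c l l1) (c x hx)) (inv_mem (c l l1))) (inv_mem (c x hx)))
    rw [← map_conj_centralizer, hl] at h4
    exact a3 ((mem_map_iff_mem (f := (MulAut.conj g).toMonoidHom) (MulAut.conj g).injective).1 h4)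
  · refine hN l hl' (e7 ▸ mul_mem (hQ (e5 e6)) (mem_centralizer_singleton_iff.2 rfl)) (e7 ▸ mul_mem ?_ ?_)
    · exact sup_le le_normalizer (h.symm.comm.trans (centralizer_le_normalizer _)) (e5 e6)
    · exact centralizer_le_normalizer _ (mem_centralizer_singleton_of.1 h.rcL.le)

end CfsgLib.QT2
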